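import Cfsg.Agent.Lib.Helper28.UMax
import Cfsg.Agent.Lib.Helper28.UHerm
import Cfsg.Agent.Lib.Helper29.ExtrL.Defs

/-!
# Project UD, block K1Q2 (leader of the block: lead): the toral case `k = 1`, `q = 2` of S5655

Over `F_4` every non-zero scalar has norm one, so the monomial matrices of `SU_n(2)` are ALL monomial matrices of
determinant one, `hermForm n F 2 y y = wt y` (number of non-zero coordinates, in characteristic 2) and the unitary
transvections are `x ↦ x + f x y • y`, `y` of even weight.  See `PLAN.md`.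
-/

set_option autoImplicit false

namespace Cfsg.Agent.Lib.Lead.UDK1Q2

open Matrix Cfsg.Agent.Lib.Helper29.ExtrL Cfsg.Agent.Lib.Helper28.UMax

/-- number of non-zero coordinates. -/
def wt {n : ℕ} {F : Type*} [Field F] [DecidableEq F] (y : Fin n → F) : ℕ :=
  (Finset.univ.filter fun i => y i ≠ 0).card

/-- the data of the block: `|F| = 4`, the Frobenius `σ`, an intermediate group `M` of `SU_n(2) = GU ⊓ SL` (inside `GL`)
containing all monomial matrices of `SU_n(2)`. -/
structure Ctx (n : ℕ) (F : Type*) [Field F] [Fintype F] where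
  hF : Fintype.card F = 4
  σ : F ≃+* F
  hσ : ∀ x, σ x = x ^ 2
  hf : Cfsg.Geo.IsUnitaryForm σ (Cfsg.hermForm n F 2)
  M : Subgroup (Matrix.GeneralLinearGroup (Fin n) F)
  hMG : M ≤ Cfsg.GU n F 2 ⊓ Cfsg.Geo.specialLinear (Fin n) F
  hN : ∀ g ∈ Cfsg.GU n F 2 ⊓ Cfsg.Geo.specialLinear (Fin n) F,
    IsMono ((g : Matrix.GeneralLinearGroup (Fin n) F) : Matrix (Fin n) (Fin n) F) → g ∈ M

/-- the isotropic vectors whose root group lies in `M`. -/
def Ctx.X {n : ℕ} {F : Type*} [Field F] [Fintype F] (C : Ctx n F) : Set (Fin n → F) :=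
  XS (Cfsg.hermForm n F 2) C.σ C.M

end Cfsg.Agent.Lib.Lead.UDK1Q2
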